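import Groth.Agent.ReflStalk.Normal
import Groth.Agent.ReflStalk.Local
import Groth.Agent.StalkFree.Basic
import Groth.Agent.DCohBridge.FinLocFreeTensor

/-!
# Reflexive modules and extension from big opens
-/

set_option autoImplicit false
set_option linter.style.haveILetI false
set_option backward.isDefEq.respectTransparency.types false

noncomputable section

universe u

open CategoryTheory AlgebraicGeometry Opposite TopologicalSpace
open Groth.Agent.RefDiv (toEta eta_mem Nrm)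

namespace Groth.Agent.ReflBig

variable {X : Scheme.{u}}

/-- Charts of a restriction are charts. -/
theorem exists_chart_of_restrict {F : X.Modules} {U : X.Opens} (hU : FlatMod.IsFinLocFree (F.restrict U.ι))
    {x : X} (hx : x ∈ U) : ∃ (W : X.Opens) (k : ℕ), x ∈ W ∧
      Nonempty (F.restrict W.ι ≅ FlatMod.freeMod (W : Scheme.{u}) k) := by
  obtain ⟨W, k, hW, ⟨t⟩⟩ := hU ⟨x, hx⟩
  let j := W.ι ≫ U.ι
  let l := j.isoOpensRange.inv
  exact ⟨j.opensRange, k, ⟨⟨⟨x, hx⟩, hW⟩, rfl⟩,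
    ⟨((Scheme.Modules.restrictFunctorCongr (show j.opensRange.ι = l ≫ j by
        rw [eq_comm, Iso.inv_comp_eq, Scheme.Hom.isoOpensRange_hom_ι])) ≪≫
      Scheme.Modules.restrictFunctorComp l j).app F ≪≫
      (Scheme.Modules.restrictFunctor l).mapIso ((Scheme.Modules.restrictFunctorComp W.ι U.ι).app F ≪≫ t) ≪≫
      TensorMod.restrictFreeModIso l k⟩⟩

theorem free_stalk [IsLocallyNoetherian X] {F : X.Modules} (hF : Coh.IsCoh F) {U : X.Opens}
    (hU : FlatMod.IsFinLocFree (F.restrict U.ι)) {x : X} (hx : x ∈ U) :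
    Module.Free (X.presheaf.stalk x) (F.presheaf.stalk x) := by
  obtain ⟨W, k, hxW, ⟨t⟩⟩ := exists_chart_of_restrict hU hx
  obtain ⟨W', hW', hxW', hle⟩ := exists_isAffineOpen_mem_and_subset (U := W) (x := x) hxW
  haveI : F.IsQuasicoherent := hF.1
  haveI := FinLocFreeSections.free_sections F hW' (TensorMod.freeRestrict (show W' ≤ W from hle) t)
  haveI := FinLocFreeSections.flat_stalk_of_flat_sections F hW' hxW'
  haveI := QuasiFlatLib.finite_stalk F hF x
  exact Module.free_of_flat_of_isLocalRing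

/-- A union of charts is locally free. -/
theorem isFinLocFree_restrict_of_charts {F : X.Modules} {U : X.Opens}
    (h : ∀ x ∈ U, ∃ (W : X.Opens) (k : ℕ), x ∈ W ∧ Nonempty (F.restrict W.ι ≅ FlatMod.freeMod (W : Scheme.{u}) k)) :
    FlatMod.IsFinLocFree (F.restrict U.ι) := by
  rintro ⟨x, hx⟩
  obtain ⟨W, k, hxW, ⟨t⟩⟩ := h x hx
  refine ⟨U.ι ⁻¹ᵁ W, k, hxW, ⟨(Scheme.Modules.restrictFunctorComp (U.ι ⁻¹ᵁ W).ι U.ι).symm.app F ≪≫
    (Scheme.Modules.restrictFunctorCongr (morphismRestrict_ι U.ι W).symm).app F ≪≫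
    (Scheme.Modules.restrictFunctorComp (U.ι ∣_ W) W.ι).app F ≪≫
    (Scheme.Modules.restrictFunctor (U.ι ∣_ W)).mapIso t ≪≫ TensorMod.restrictFreeModIso (U.ι ∣_ W) k⟩⟩

variable [IsIntegral X] [IsLocallyNoetherian X] [Nrm X]

/-- Extension across codimension two inside the locus where the module is reflexive. -/
theorem res_bijective_of_reflexiveAt {F : X.Modules} (hF : Coh.IsCoh F) (htf : TorSh.IsTorsionFree F)
    (hη : RefHull.IsReflexiveAt F (genericPoint X)) {U V : X.Opens} (hVU : V ≤ U) (hbig : ReflStalk.Big U V)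
    (hr : ∀ x ∈ U, RefHull.IsReflexiveAt F x) :
    Function.Bijective (F.presheaf.map (homOfLE hVU).op) := by
  refine ⟨ReflStalk.res_injective hF htf hVU hbig, fun t => ?_⟩
  rcases Classical.em (∃ x, x ∈ U) with ⟨x₀, hx₀⟩ | hU
  swap
  · exact ⟨0, TopCat.Presheaf.section_ext ⟨F.presheaf, F.isSheaf⟩ V _ t fun x hx => absurd ⟨x, hVU hx⟩ hU⟩
  have hηV := ReflStalk.eta_mem_of_big hbig hx₀
  let v₀ := F.presheaf.germ V (genericPoint X) hηV t
  have hlift : ∀ x : U, ∃ (W : X.Opens) (_ : x.1 ∈ W) (hW : W ≤ U) (s : Γ(F, W)),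
      ∀ hη' : genericPoint X ∈ W, F.presheaf.germ W (genericPoint X) hη' s = v₀ := by
    rintro ⟨x, hx⟩
    obtain ⟨v, hv⟩ := ReflStalk.exists_lift hF hη x (hr x hx) v₀ fun z hzx hz => by
      have hzV : z ∈ V := by
        by_contra hzV
        have := (hbig z (hzx.mem_open U.isOpen hx) hzV).trans (ReflStalk.ringKrullDim_le_one hz)
        exact absurd this (by decide)
      exact ⟨F.presheaf.germ V z hzV t, RefDiv.toEta_germ F z hzV t⟩
    obtain ⟨W, hxW, s, rfl⟩ := TopCat.Presheaf.exists_germ_eq F.presheaf v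
    refine ⟨W ⊓ U, ⟨hxW, hx⟩, inf_le_right, F.presheaf.map (homOfLE inf_le_left).op s, fun hη' => ?_⟩
    rw [TopCat.Presheaf.germ_res_apply, ← hv, RefDiv.toEta_germ]
  choose W hxW hWU s hs using hlift
  obtain ⟨σ, hσ, -⟩ := TopCat.Sheaf.existsUnique_gluing' (⟨F.presheaf, F.isSheaf⟩ : TopCat.Sheaf Ab X)
    W U (fun i => homOfLE (hWU i)) (fun y hy => Opens.mem_iSup.2 ⟨⟨y, hy⟩, hxW _⟩) s (fun i j =>
      ReflStalk.eq_of_eta hF htf (U := W i ⊓ W j) ⟨eta_mem (hxW i), eta_mem (hxW j)⟩ _ _ (by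
        rw [TopCat.Presheaf.germ_res_apply, TopCat.Presheaf.germ_res_apply]
        exact (hs i _).trans (hs j _).symm))
  refine ⟨σ, ReflStalk.eq_of_eta hF htf hηV _ _ ?_⟩
  rw [TopCat.Presheaf.germ_res_apply]
  have e := congrArg (F.presheaf.germ (W ⟨x₀, hx₀⟩) (genericPoint X) (eta_mem (hxW _))) (hσ ⟨x₀, hx₀⟩)
  rw [TopCat.Presheaf.germ_res_apply] at e
  exact e.trans (hs _ _)

theorem unit_app_bijective_iff (F : X.Modules) (U : X.Opens) :
    IsIso ((Scheme.Modules.restrictAdjunction U.ι).unit.app F) ↔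
      ∀ W : X.Opens, Function.Bijective (F.presheaf.map (homOfLE (U.ι.image_preimage_le W)).op) := by
  rw [Scheme.Modules.Hom.isIso_iff_isIso_app]
  refine forall_congr' fun W => ?_
  rw [Scheme.Modules.restrictAdjunction_unit_app_app, ConcreteCategory.isIso_iff_bijective]
  rfl

theorem main {F : X.Modules} (hF : Coh.IsCoh F) :
    (∀ x : X, Module.IsReflexive (X.presheaf.stalk x) (F.presheaf.stalk x)) ↔
      ∃ U : X.Opens, (∀ x : X, x ∉ U → (2 : WithBot ℕ∞) ≤ ringKrullDim (X.presheaf.stalk x)) ∧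
        FlatMod.IsFinLocFree (F.restrict U.ι) ∧ IsIso ((Scheme.Modules.restrictAdjunction U.ι).unit.app F) := by
  have himg : ∀ (U W : X.Opens) (z : X), z ∈ U → z ∈ W → z ∈ U.ι ''ᵁ (U.ι ⁻¹ᵁ W) :=
    fun U W z hzU hzW => ⟨⟨z, hzU⟩, hzW, rfl⟩
  constructor
  · intro hr
    have hrefl : RefHull.IsReflexive F := (ReflStalk.isReflexive_iff hF).2 hr
    obtain ⟨htf, hn⟩ := ReflStalk.isNormalMod_of_isReflexive hF hrefl
    haveI : F.IsQuasicoherent := hF.1
    have hFP : CohB1.IsFP F := QCohBase.isFinitePresentation_of_affine F fun x => by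
      obtain ⟨U, hU, hx, -⟩ := exists_isAffineOpen_mem_and_subset (U := (⊤ : X.Opens)) (x := x) trivial
      haveI : IsNoetherianRing Γ(X, U) := IsLocallyNoetherian.component_noetherian ⟨U, hU⟩
      haveI : Module.Finite Γ(X, U) Γ(F, U) := QCohBase.isFiniteType_toFinite hF hU
      exact ⟨U, hU, hx, Module.finitePresentation_of_finite _ _⟩
    let U : X.Opens := sSup {W | ∃ k : ℕ, Nonempty (F.restrict W.ι ≅ FlatMod.freeMod (W : Scheme.{u}) k)}
    have hbig : ∀ x : X, x ∉ U → (2 : WithBot ℕ∞) ≤ ringKrullDim (X.presheaf.stalk x) := by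
      intro x hx
      by_contra hlt
      have hd : ringKrullDim (X.presheaf.stalk x) ≤ 1 := Order.le_of_lt_succ (not_le.1 hlt)
      haveI : IsDomain (X.presheaf.stalk x) := inferInstance
      haveI : IsIntegrallyClosed (X.presheaf.stalk x) := (Nrm.normal (X := X) x).2
      haveI := CAlgReflexive.isPrincipalIdealRing_of_normal_dim_le_one (X.presheaf.stalk x) hd
      haveI := QuasiFlatLib.finite_stalk F hF x
      haveI := htf x
      haveI : Module.Free (X.presheaf.stalk x) (F.presheaf.stalk x) := Module.free_of_finite_type_torsion_free'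
      obtain ⟨W, k, hxW, ht⟩ := FlatOverBC.exists_iso_freeMod F hFP x inferInstance
      exact hx (Opens.mem_sSup.2 ⟨W, ⟨k, ht⟩, hxW⟩)
    refine ⟨U, hbig, isFinLocFree_restrict_of_charts fun x hx => ?_, (unit_app_bijective_iff F U).2 fun W => ?_⟩
    · obtain ⟨W, ⟨k, ht⟩, hxW⟩ := Opens.mem_sSup.1 hx
      exact ⟨W, k, hxW, ht⟩
    · exact hn W (U.ι ''ᵁ (U.ι ⁻¹ᵁ W)) (U.ι.image_preimage_le W)
        fun x hxW hx => hbig x fun hxU => hx (himg U W x hxU hxW)
  · rintro ⟨U, hbig, hfree, hunit⟩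
    rw [unit_app_bijective_iff] at hunit
    have hrU : ∀ x ∈ U, RefHull.IsReflexiveAt F x := fun x hx => by
      haveI := free_stalk hF hfree hx
      haveI := QuasiFlatLib.finite_stalk F hF x
      show Module.IsReflexive _ _
      infer_instance
    have hηU : genericPoint X ∈ U := by
      by_contra h
      have := hbig _ h
      rw [ReflStalk.ringKrullDim_eta] at this
      exact absurd this (by decide)
    have htf : TorSh.IsTorsionFree F := fun x => by
      refine ⟨fun r hr a b hab => sub_eq_zero.1 ?_⟩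
      have hd : r • (a - b) = 0 := by rw [smul_sub]; exact sub_eq_zero.2 hab
      revert hd
      generalize a - b = c
      intro hd
      obtain ⟨W₁, h₁, s, rfl⟩ := TopCat.Presheaf.exists_germ_eq F.presheaf c
      obtain ⟨W₂, h₂, t, rfl⟩ := TopCat.Presheaf.exists_germ_eq X.presheaf r
      rw [← TopCat.Presheaf.germ_res_apply F.presheaf (homOfLE (inf_le_left : W₁ ⊓ W₂ ≤ W₁)) x ⟨h₁, h₂⟩ s,
        ← TopCat.Presheaf.germ_res_apply X.presheaf (homOfLE (inf_le_right : W₁ ⊓ W₂ ≤ W₂)) x ⟨h₁, h₂⟩ t,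
        ← Mero.germ_smul] at hd
      obtain ⟨T, hxT, i₁, i₂, heq⟩ := TopCat.Presheaf.germ_eq F.presheaf x (U := W₁ ⊓ W₂) (V := W₁ ⊓ W₂)
        ⟨h₁, h₂⟩ ⟨h₁, h₂⟩ _ 0 (hd.trans (map_zero _).symm)
      rw [map_zero] at heq
      have hT1 : T ≤ W₁ := i₁.le.trans inf_le_left
      have h0 : F.presheaf.map (homOfLE hT1).op s = 0 := by
        refine (hunit T).1 (Eq.trans ?_ (map_zero _).symm)
        refine TopCat.Presheaf.section_ext (⟨F.presheaf, F.isSheaf⟩ : TopCat.Sheaf Ab X) _ _ _ fun z hz => ?_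
        refine Eq.trans ?_ (map_zero _).symm
        show F.presheaf.germ _ z hz _ = 0
        obtain ⟨w, hwT, rfl⟩ := hz
        rw [TopCat.Presheaf.germ_res_apply, TopCat.Presheaf.germ_res_apply]
        have e := congrArg (F.presheaf.germ T (U.ι w) hwT) heq
        rw [map_zero, TopCat.Presheaf.germ_res_apply, Mero.germ_smul, TopCat.Presheaf.germ_res_apply,
          TopCat.Presheaf.germ_res_apply] at e
        haveI := ReflStalk.isTorsionFree_of_isReflexiveAt hF (U.ι w) (hrU _ w.2)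
        refine (smul_eq_zero.1 e).resolve_left fun hz0 => ?_
        haveI : Nonempty W₂ := ⟨⟨x, h₂⟩⟩
        have : t = 0 := germ_injective_of_isIntegral X _ _ (hz0.trans (map_zero _).symm)
        exact hr.ne_zero (by rw [this, map_zero])
      rw [← TopCat.Presheaf.germ_res_apply F.presheaf (homOfLE hT1) x hxT s, h0, map_zero]
    have hn : ReflStalk.IsNormalMod F := by
      intro W V hVW hb
      have hb' : ReflStalk.Big (U.ι ''ᵁ (U.ι ⁻¹ᵁ W)) (U.ι ''ᵁ (U.ι ⁻¹ᵁ V)) := by
        intro z hz hz'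
        obtain ⟨w, hw, rfl⟩ := hz
        exact hb _ hw fun hV => hz' ⟨w, hV, rfl⟩
      have hle : U.ι ''ᵁ (U.ι ⁻¹ᵁ V) ≤ U.ι ''ᵁ (U.ι ⁻¹ᵁ W) := U.ι.image_mono (U.ι.preimage_mono hVW)
      have h3 := res_bijective_of_reflexiveAt hF htf (hrU _ hηU) hle hb' fun z hz => hrU z (by
        obtain ⟨w, -, rfl⟩ := hz; exact w.2)
      refine (Function.Bijective.of_comp_iff' (hunit V) _).1 ?_
      have e : (⇑(F.presheaf.map (homOfLE (U.ι.image_preimage_le V)).op) ∘ ⇑(F.presheaf.map (homOfLE hVW).op)) =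
          ⇑(F.presheaf.map (homOfLE hle).op) ∘ ⇑(F.presheaf.map (homOfLE (U.ι.image_preimage_le W)).op) := by
        funext s
        simp only [Function.comp_apply, ← CategoryTheory.comp_apply, ← Functor.map_comp]
        rfl
      rw [e]
      exact h3.comp (hunit W)
    intro x
    exact (ReflStalk.isReflexive_iff hF).1 (ReflStalk.isReflexive_of_isNormalMod hF htf hn fun z hz => hrU z (by
      by_contra hzU
      exact absurd ((hbig z hzU).trans hz) (by decide))) x

end Groth.Agent.ReflBig
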